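import Groth.Prelude.Def_W4c1frobunstivaNR
import Mathlib.LinearAlgebra.Matrix.Determinant.Basic
import Mathlib.RingTheory.Nilpotent.Lemmas
import Mathlib.RingTheory.Noetherian.Nilpotent
import Mathlib.LinearAlgebra.Matrix.NonsingularInverse
import Mathlib.RingTheory.Nilpotent.Exp

universe u v

namespace W4c1Basic

open W4c1frobunstiva Matrix

variable {R : Type u} [CommRing R] {M : Type v} [AddCommGroup M] [Module R M] {r : ℕ}

theorem exists_combo {m : Fin r → M} (hm : Submodule.span R (Set.range m) = ⊤) (m' : Fin r → M) :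
    ∃ T : Matrix (Fin r) (Fin r) R, ∀ j, m' j = ∑ i, T j i • m i := by
  have h : ∀ j, ∃ a : Fin r → R, ∑ i, a i • m i = m' j := fun j =>
    (Submodule.mem_span_range_iff_exists_fun R).mp (hm ▸ Submodule.mem_top)
  choose a ha using h
  exact ⟨Matrix.of a, fun j => (ha j).symm⟩

theorem combo_mul {m m' : Fin r → M} {T : Matrix (Fin r) (Fin r) R}
    (hT : ∀ j, m' j = ∑ i, T j i • m i) (a : Fin r → R) :
    ∑ j, a j • m' j = ∑ i, (a ᵥ* T) i • m i := by
  simp only [hT, Finset.smul_sum, smul_smul, Matrix.vecMul, dotProduct, Finset.sum_smul]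
  rw [Finset.sum_comm]

/-- matrices congruent to `1` mod the nilradical are units -/
theorem isUnit_of_sub_one_nilpotent {P : Matrix (Fin r) (Fin r) R}
    (h : ∀ i j, IsNilpotent (P i j - (1 : Matrix (Fin r) (Fin r) R) i j)) : IsUnit P := by
  rw [Matrix.isUnit_iff_isUnit_det]
  have e : P.map (Ideal.Quotient.mk (nilradical R)) = 1 := by
    ext i j
    rw [Matrix.map_apply, ← sub_eq_zero]
    have : (1 : Matrix (Fin r) (Fin r) (R ⧸ nilradical R)) i j =
        Ideal.Quotient.mk (nilradical R) ((1 : Matrix (Fin r) (Fin r) R) i j) := by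
      by_cases hij : i = j <;> simp [Matrix.one_apply, hij]
    rw [this, ← map_sub, Ideal.Quotient.eq_zero_iff_mem]
    exact h i j
  have hd : Ideal.Quotient.mk (nilradical R) P.det = 1 := by
    rw [RingHom.map_det, RingHom.mapMatrix_apply, e, Matrix.det_one]
  have hn : IsNilpotent (P.det - 1) := by
    rw [← mem_nilradical, ← Ideal.Quotient.eq_zero_iff_mem, map_sub, hd, map_one, sub_self]
  simpa using hn.isUnit_add_one

theorem isUnit_of_combos {b : Fin r → M} (hb : IsNRBasis R M b) {m : Fin r → M}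
    {P Q : Matrix (Fin r) (Fin r) R} (hP : ∀ j, m j = ∑ i, P j i • b i)
    (hQ : ∀ j, b j = ∑ i, Q j i • m i) : IsUnit (Q * P) := by
  classical
  refine isUnit_of_sub_one_nilpotent fun j => hb.2 _ ?_
  have h1 : b j = ∑ i, (Q * P) j i • b i := by
    conv_lhs => rw [hQ j, combo_mul hP]
    simp [Matrix.mul_apply, Matrix.vecMul, dotProduct]
  simp only [sub_smul, Finset.sum_sub_distrib, ← h1, Matrix.one_apply, ite_smul, one_smul,
    zero_smul, Finset.sum_ite_eq, Finset.mem_univ, if_true, sub_self]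

/-- Every generating family of size `r` of an NR-free module of rank `r` is an NR-basis. -/
theorem isNRBasis_of_span (hM : IsNRFree R M r) {m : Fin r → M}
    (hm : Submodule.span R (Set.range m) = ⊤) : IsNRBasis R M m := by
  obtain ⟨b, hb⟩ := hM
  obtain ⟨P, hP⟩ := exists_combo hb.1 m
  obtain ⟨Q, hQ⟩ := exists_combo hm b
  refine ⟨hm, fun a ha => ?_⟩
  have hu := isUnit_of_combos hb hP hQ
  have hPu : IsUnit P := by
    rw [Matrix.isUnit_iff_isUnit_det, Matrix.det_mul] at hu
    exact (Matrix.isUnit_iff_isUnit_det P).mpr (isUnit_of_mul_isUnit_right hu)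
  obtain ⟨u, hu'⟩ := hPu
  have hnil : ∀ i, IsNilpotent ((a ᵥ* P) i) := hb.2 _ (by rw [← combo_mul hP]; exact ha)
  have ha' : a = (a ᵥ* P) ᵥ* (↑u⁻¹ : Matrix (Fin r) (Fin r) R) := by
    rw [Matrix.vecMul_vecMul, ← hu', Units.mul_inv, Matrix.vecMul_one]
  intro i
  rw [ha']
  rw [← mem_nilradical]
  simp only [Matrix.vecMul, dotProduct]
  exact sum_mem fun j _ => Ideal.mul_mem_right _ _ (mem_nilradical.mpr (hnil j))

end W4c1Basic
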