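import Mathlib.Algebra.DualNumber
import Mathlib.LinearAlgebra.Basis.Basic
import Mathlib.RingTheory.OrzechProperty
import Mathlib.RingTheory.FiniteType
import Mathlib.LinearAlgebra.Quotient.Basic
import Mathlib.Algebra.Module.Submodule.Pointwise

universe u v

open DualNumber Pointwise

namespace W4c1Basic

variable {R : Type u} [CommRing R] {M : Type v} [AddCommGroup M] [Module R[ε] M] [Module R M]
  [IsScalarTower R R[ε] M]

local notation "εM" => ((ε : R[ε]) • (⊤ : Submodule R[ε] M))

theorem decomp (z : R[ε]) : z = algebraMap R R[ε] z.fst + algebraMap R R[ε] z.snd * ε := by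
  ext <;> simp [TrivSqZeroExt.algebraMap_eq_inl]

theorem smul_eq (z : R[ε]) (x : M) : z • x = z.fst • x + z.snd • ((ε : R[ε]) • x) := by
  conv_lhs => rw [decomp z]
  rw [add_smul, mul_smul, algebraMap_smul, algebraMap_smul]

theorem mk_smul (z : R[ε]) (x : M) :
    (Submodule.Quotient.mk (z • x) : M ⧸ εM) = z.fst • Submodule.Quotient.mk x := by
  rw [← Submodule.Quotient.mk_smul, Submodule.Quotient.eq, smul_eq, add_sub_cancel_left,
    ← algebraMap_smul R[ε] z.snd, smul_comm]
  exact Submodule.smul_mem_pointwise_smul _ _ _ Submodule.mem_top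

theorem bases_of_basis {r : ℕ} (b : Module.Basis (Fin r) R[ε] M) :
    Nonempty (Module.Basis (Fin r) R (M ⧸ εM)) ∧
      Nonempty (Module.Basis (Fin r) R ((εM).restrictScalars R)) := by
  constructor
  · refine ⟨Module.Basis.mk (v := fun i => (Submodule.Quotient.mk (b i) : M ⧸ εM)) ?_ ?_⟩
    · rw [Fintype.linearIndependent_iff]
      intro g hg i
      have h1 : (∑ i, algebraMap R R[ε] (g i) • b i) ∈ εM := by
        rw [← Submodule.Quotient.mk_eq_zero, ← hg, ← Submodule.mkQ_apply, map_sum]
        exact Finset.sum_congr rfl fun i _ => by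
          rw [algebraMap_smul]; rfl
      obtain ⟨y, -, hy⟩ := (Submodule.mem_smul_pointwise_iff_exists _ _ _).mp h1
      rw [← b.sum_repr y, Finset.smul_sum] at hy
      simp only [smul_smul] at hy
      have := congrArg (fun w => (b.repr w i).fst) hy
      simpa [Finsupp.single_apply, TrivSqZeroExt.algebraMap_eq_inl] using this.symm
    · rintro z -
      obtain ⟨x, rfl⟩ := Submodule.Quotient.mk_surjective _ z
      rw [← b.sum_repr x, ← Submodule.mkQ_apply, map_sum]
      refine sum_mem fun i _ => ?_
      rw [Submodule.mkQ_apply, mk_smul]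
      exact Submodule.smul_mem _ _ (Submodule.subset_span ⟨i, rfl⟩)
  · refine ⟨Module.Basis.mk (v := fun i =>
      (⟨(ε : R[ε]) • b i, Submodule.smul_mem_pointwise_smul _ _ _ Submodule.mem_top⟩ :
        (εM).restrictScalars R)) ?_ ?_⟩
    · rw [Fintype.linearIndependent_iff]
      intro g hg i
      have hy := congrArg Subtype.val hg
      rw [Submodule.coe_sum] at hy
      change ∑ j, g j • ((ε : R[ε]) • b j) = 0 at hy
      simp only [← algebraMap_smul R[ε] (g _), smul_smul] at hy
      have := congrArg TrivSqZeroExt.snd (Fintype.linearIndependent_iff.mp b.linearIndependent _ hy i)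
      simpa [TrivSqZeroExt.algebraMap_eq_inl] using this
    · rintro ⟨z, hz⟩ -
      obtain ⟨x, -, rfl⟩ := (Submodule.mem_smul_pointwise_iff_exists _ _ _).mp hz
      rw [Submodule.mem_span_range_iff_exists_fun]
      refine ⟨fun i => (b.repr x i).fst, ?_⟩
      apply Subtype.ext
      simp only [Submodule.coe_sum, Submodule.coe_smul]
      conv_rhs => rw [← b.sum_repr x, Finset.smul_sum]
      refine Finset.sum_congr rfl fun i _ => ?_
      rw [smul_eq (b.repr x i) (b i), smul_add, smul_comm (ε : R[ε]) (b.repr x i).fst,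
        smul_comm (ε : R[ε]) (b.repr x i).snd, smul_smul, DualNumber.eps_mul_eps, zero_smul,
        smul_zero, add_zero]

theorem basis_of_bases {r : ℕ} (b1 : Module.Basis (Fin r) R (M ⧸ εM))
    (b2 : Module.Basis (Fin r) R ((εM).restrictScalars R)) :
    Nonempty (Module.Basis (Fin r) R[ε] M) := by
  choose m hm using fun i => Submodule.Quotient.mk_surjective εM (b1 i)
  have key : ∀ x : M, x - ∑ i, b1.repr (Submodule.Quotient.mk x) i • m i ∈ εM := fun x => by
    rw [← Submodule.Quotient.mk_eq_zero, Submodule.Quotient.mk_sub, ← Submodule.mkQ_apply (p := εM)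
      (∑ i, b1.repr (Submodule.Quotient.mk x) i • m i), map_sum, sub_eq_zero]
    simp only [Submodule.mkQ_apply, Submodule.Quotient.mk_smul, hm, b1.sum_repr]
  have keyε : ∀ x : M, (ε : R[ε]) • x =
      ∑ i, b1.repr (Submodule.Quotient.mk x) i • ((ε : R[ε]) • m i) := fun x => by
    obtain ⟨y, -, hy⟩ := (Submodule.mem_smul_pointwise_iff_exists _ _ _).mp (key x)
    have h2 : (ε : R[ε]) • ((ε : R[ε]) • y) = 0 := by
      rw [smul_smul, DualNumber.eps_mul_eps, zero_smul]
    rw [hy, smul_sub, Finset.smul_sum, sub_eq_zero] at h2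
    rw [h2]
    exact Finset.sum_congr rfl fun i _ => smul_comm _ _ _
  let c : Fin r → (εM).restrictScalars R := fun i =>
    ⟨(ε : R[ε]) • m i, Submodule.smul_mem_pointwise_smul _ _ _ Submodule.mem_top⟩
  let L : (Fin r → R) →ₗ[R] (εM).restrictScalars R := Fintype.linearCombination R c
  have hL : Function.Surjective L := by
    rintro ⟨z, hz⟩
    obtain ⟨x, -, rfl⟩ := (Submodule.mem_smul_pointwise_iff_exists _ _ _).mp hz
    refine ⟨fun i => b1.repr (Submodule.Quotient.mk x) i, Subtype.ext ?_⟩
    simp [L, c, Fintype.linearCombination_apply, keyε x]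
  have hLi : Function.Injective L := by
    have : Function.Injective (b2.equivFun.toLinearMap ∘ₗ L) :=
      OrzechProperty.injective_of_surjective_endomorphism _
        (by simpa using b2.equivFun.surjective.comp hL)
    exact fun a b h => this (by simp [h])
  refine ⟨Module.Basis.mk (v := m) ?_ ?_⟩
  · rw [Fintype.linearIndependent_iff]
    intro g hg
    have h1 : ∀ i, (g i).fst = 0 := by
      refine Fintype.linearIndependent_iff.mp b1.linearIndependent (fun i => (g i).fst) ?_
      have := congrArg (Submodule.mkQ εM) hg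
      simp only [map_sum, map_zero, Submodule.mkQ_apply, mk_smul, hm] at this
      exact this
    have h2 : L (fun i => (g i).snd) = L 0 := by
      rw [map_zero]
      apply Subtype.ext
      simp only [L, c, Fintype.linearCombination_apply, Submodule.coe_sum, Submodule.coe_smul]
      rw [ZeroMemClass.coe_zero, ← hg]
      exact Finset.sum_congr rfl fun i _ => by rw [smul_eq (g i) (m i), h1 i, zero_smul, zero_add]
    intro i
    ext
    · exact h1 i
    · exact congrFun (hLi h2) i
  · rintro x -
    obtain ⟨y, -, hy⟩ := (Submodule.mem_smul_pointwise_iff_exists _ _ _).mp (key x)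
    rw [show x = ∑ i, b1.repr (Submodule.Quotient.mk x) i • m i + (ε : R[ε]) • y by
      rw [hy, add_sub_cancel], keyε y]
    refine add_mem (sum_mem fun i _ => ?_) (sum_mem fun i _ => ?_)
    · rw [← algebraMap_smul R[ε]]
      exact Submodule.smul_mem _ _ (Submodule.subset_span ⟨i, rfl⟩)
    · rw [← algebraMap_smul R[ε], smul_smul]
      exact Submodule.smul_mem _ _ (Submodule.subset_span ⟨i, rfl⟩)

end W4c1Basic
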