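import Mathlib.RingTheory.Flat.Equalizer
import Mathlib.RingTheory.Nakayama
import Mathlib.RingTheory.Noetherian.Nilpotent
import Mathlib.RingTheory.LocalRing.ResidueField.Ideal
import Mathlib.RingTheory.Localization.BaseChange
import Mathlib.LinearAlgebra.TensorProduct.Quotient
import Mathlib.RingTheory.Ideal.Quotient.Operations
import Mathlib.RingTheory.Spectrum.Prime.Basic
import Mathlib.RingTheory.TensorProduct.Maps
import Mathlib.Tactic.LinearCombination

universe u v

open TensorProduct

namespace W4c1Basic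

variable {A : Type u} {B : Type v} [CommRing A] [CommRing B] [Algebra A B]

/-- `κ(p)` is the localization of `A ⧸ p` at the complement of `p`. -/
theorem isLocalizedModule_residueField (p : Ideal A) [p.IsPrime] :
    IsLocalizedModule p.primeCompl
      (IsScalarTower.toAlgHom A (A ⧸ p) p.ResidueField).toLinearMap := by
  have hne : ∀ s : p.primeCompl, algebraMap A p.ResidueField s ≠ 0 := fun s h =>
    s.2 (Ideal.algebraMap_residueField_eq_zero.mp h)
  refine ⟨fun s => ?_, fun y => ?_, fun {x y} h => ?_⟩
  · rw [Module.End.isUnit_iff]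
    constructor
    · intro a b h
      simp only [Module.algebraMap_end_apply, Algebra.smul_def] at h
      exact mul_left_cancel₀ (hne s) h
    · intro a
      refine ⟨(algebraMap A p.ResidueField s)⁻¹ * a, ?_⟩
      rw [Module.algebraMap_end_apply, Algebra.smul_def, mul_inv_cancel_left₀ (hne s)]
  · obtain ⟨a, ⟨s, hs⟩, rfl⟩ := IsLocalization.exists_mk'_eq (nonZeroDivisors (A ⧸ p)) y
    obtain ⟨s, rfl⟩ := Ideal.Quotient.mk_surjective s
    have hs' : s ∈ p.primeCompl := fun hmem =>
      nonZeroDivisors.ne_zero hs (Ideal.Quotient.eq_zero_iff_mem.mpr hmem)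
    refine ⟨⟨a, ⟨s, hs'⟩⟩, ?_⟩
    rw [Submonoid.smul_def, Algebra.smul_def,
      IsScalarTower.algebraMap_apply A (A ⧸ p) p.ResidueField]
    exact IsLocalization.mk'_spec' p.ResidueField a ⟨_, hs⟩
  · exact ⟨1, by rw [one_smul, one_smul]; exact
      IsFractionRing.injective (A ⧸ p) p.ResidueField h⟩

/-- An element killed in `κ(p) ⊗ N` is, up to an element outside `p`, in `p N`. -/
theorem exists_smul_mem_of_tmul_eq_zero (p : Ideal A) [p.IsPrime] {N : Type v} [AddCommGroup N]
    [Module A N] (x : N) (h : (1 : p.ResidueField) ⊗ₜ[A] x = 0) :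
    ∃ a ∉ p, a • x ∈ p • (⊤ : Submodule A N) := by
  have := isLocalizedModule_residueField p
  have hloc : IsLocalizedModule p.primeCompl (AlgebraTensorModule.rTensor A N
    (IsScalarTower.toAlgHom A (A ⧸ p) p.ResidueField).toLinearMap) := inferInstance
  have h0 : AlgebraTensorModule.rTensor A N
      (IsScalarTower.toAlgHom A (A ⧸ p) p.ResidueField).toLinearMap ((1 : A ⧸ p) ⊗ₜ[A] x) = 0 := by
    simpa using h
  obtain ⟨s, hs⟩ := (IsLocalizedModule.eq_zero_iff p.primeCompl _).mp h0
  refine ⟨s, s.2, ?_⟩
  rw [Submonoid.smul_def, ← TensorProduct.tmul_smul] at hs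
  rw [← Submodule.Quotient.mk_eq_zero, ← TensorProduct.quotTensorEquivQuotSMul_mk_one_tmul, hs,
    map_zero]

theorem isReduced_of_flat_of_fibres [IsNoetherianRing B] [Module.Flat A (B ⧸ nilradical B)]
    (hfib : ∀ p : PrimeSpectrum A, IsReduced (p.asIdeal.ResidueField ⊗[A] B)) : IsReduced B := by
  classical
  let n := (nilradical B).restrictScalars A
  suffices hn : nilradical B = ⊥ by
    exact ⟨fun x hx => by simpa [hn] using mem_nilradical.mpr hx⟩
  by_contra hne
  have hann : (nilradical B).annihilator ≠ ⊤ := fun h => hne (Submodule.annihilator_eq_top_iff.mp h)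
  obtain ⟨q, hq, hle⟩ := Ideal.exists_le_maximal _ hann
  let p := q.comap (algebraMap A B)
  have hsm : nilradical B ≤ q • nilradical B := by
    intro x hx
    let x' : n := ⟨x, hx⟩
    have hinj : Function.Injective (n.subtype.lTensor p.ResidueField) :=
      LinearMap.lTensor_injective_of_exact_of_flat
        (Ideal.Quotient.mkₐ A (nilradical B)).toLinearMap Ideal.Quotient.mk_surjective
        n.subtype n.injective_subtype
        (fun y => ⟨fun h => ⟨⟨y, Ideal.Quotient.eq_zero_iff_mem.mp h⟩, rfl⟩,
          fun ⟨z, hz⟩ => hz ▸ Ideal.Quotient.eq_zero_iff_mem.mpr z.2⟩) p.ResidueField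
    have h0 : (1 : p.ResidueField) ⊗ₜ[A] x' = 0 := by
      refine hinj ?_
      rw [map_zero, LinearMap.lTensor_tmul]
      have := hfib ⟨p, inferInstance⟩
      refine IsNilpotent.eq_zero ?_
      exact (mem_nilradical.mp hx).map
        (Algebra.TensorProduct.includeRight : B →ₐ[A] p.ResidueField ⊗[A] B)
    obtain ⟨a, ha, hax⟩ := exists_smul_mem_of_tmul_eq_zero p x' h0
    have h1 : a • x ∈ q • nilradical B := by
      have h2 : (a • x' : n) ∈ (p • (⊤ : Submodule A n)) := hax
      have : ∀ z : n, z ∈ (p • (⊤ : Submodule A n)) → (z : B) ∈ q • nilradical B := by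
        intro z hz
        refine Submodule.smul_induction_on hz (fun c hc w _ => ?_) (fun u v hu hv => ?_)
        · rw [Submodule.coe_smul, Algebra.smul_def c (w : B)]
          exact Ideal.mul_mem_mul hc w.2
        · simpa using add_mem hu hv
      exact this _ h2
    obtain ⟨c, d, hd, hcd⟩ := hq.exists_inv (x := algebraMap A B a) ha
    have hx' : x = c • (a • x) + d * x := by
      rw [Algebra.smul_def a x, smul_eq_mul]; linear_combination -x * hcd
    rw [hx']
    exact add_mem (Submodule.smul_mem _ c h1) (Submodule.smul_mem_smul hd hx)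
  obtain ⟨r, hr1, hr2⟩ := Submodule.exists_sub_one_mem_and_smul_eq_zero_of_fg_of_le_smul q
    (nilradical B) (IsNoetherian.noetherian _) hsm
  have hr : r ∈ q := hle (Submodule.mem_annihilator.mpr hr2)
  exact hq.ne_top ((Ideal.eq_top_iff_one _).mpr (by simpa using q.sub_mem hr hr1))

end W4c1Basic
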