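import Mathlib.RingTheory.PowerSeries.WellKnown
import Mathlib.Algebra.BigOperators.Fin
import Mathlib.Data.Fintype.BigOperators
import Mathlib.Algebra.Ring.GeomSum

namespace W4c1Basic

open PowerSeries Finset

noncomputable def term (p : ℕ) (e : Fin p) : ℤ⟦X⟧ := if 1 ≤ (e : ℕ) then X ^ (e : ℕ) else 0

theorem prod_term {n p : ℕ} (e : Fin n → Fin p) :
    ∏ i, term p (e i) = if ∀ i, 1 ≤ (e i : ℕ) then X ^ (∑ i, (e i : ℕ)) else 0 := by
  by_cases h : ∀ i, 1 ≤ (e i : ℕ)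
  · rw [if_pos h, ← Finset.prod_pow_eq_pow_sum]
    exact Finset.prod_congr rfl fun i _ => if_pos (h i)
  · rw [if_neg h]
    push_neg at h
    obtain ⟨i, hi⟩ := h
    exact Finset.prod_eq_zero (Finset.mem_univ i) (if_neg (by omega))

theorem card_eq_coeff (p n s : ℕ) :
    (Fintype.card {e : Fin n → Fin p // (∀ i, 1 ≤ (e i : ℕ)) ∧ ∑ i, (e i : ℕ) = s} : ℤ) =
      coeff s ((∑ e : Fin p, term p e) ^ n) := by
  classical
  rw [← Fin.prod_const, Finset.prod_univ_sum, Fintype.piFinset_univ, map_sum]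
  simp only [prod_term, apply_ite (coeff s), map_zero, coeff_X_pow]
  rw [Fintype.card_subtype, Finset.card_filter]
  push_cast
  refine Finset.sum_congr rfl fun e _ => ?_
  by_cases h : ∀ i, 1 ≤ (e i : ℕ) <;> simp [h, eq_comm]

theorem geom (p : ℕ) :
    (1 - X) * (∑ e : Fin p, term p e) = (X : ℤ⟦X⟧) * (1 - X ^ (p - 1)) := by
  rcases p with _ | q
  · simp
  rw [Fin.sum_univ_succ]
  simp only [term, Fin.val_zero, Fin.val_succ, Nat.not_ofNat_le_one, Nat.le_add_left, if_true,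
    nonpos_iff_eq_zero, one_ne_zero, Nat.le_zero, if_false, zero_add, Nat.add_sub_cancel, pow_succ']
  rw [← Finset.mul_sum, Fin.sum_univ_eq_sum_range (fun i => (X : ℤ⟦X⟧) ^ i) q, mul_left_comm,
    mul_neg_geom_sum]

theorem pow_eq (p n : ℕ) :
    (∑ e : Fin p, term p e) ^ n =
      X ^ n * (1 - X ^ (p - 1)) ^ n * (invOneSubPow ℤ n).val := by
  have h1 : ((1 : ℤ⟦X⟧) - X) ^ n * (invOneSubPow ℤ n).val = 1 := by
    rw [← invOneSubPow_inv_eq_one_sub_pow]
    exact (invOneSubPow ℤ n).inv_val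
  calc _ = ((1 - X) * ∑ e : Fin p, term p e) ^ n * (invOneSubPow ℤ n).val := by
        rw [mul_pow, mul_right_comm, h1, one_mul]
    _ = _ := by rw [geom, mul_pow]

theorem card_eq_altSum (p n s : ℕ) (hn : 1 ≤ n) :
    (Fintype.card {e : Fin n → Fin p // (∀ i, 1 ≤ (e i : ℕ)) ∧ ∑ i, (e i : ℕ) = s} : ℤ) =
      ∑ i ∈ Finset.range (n + 1),
        (-1 : ℤ) ^ i * (n.choose i : ℤ) *
          (if i * (p - 1) + n ≤ s then (((s - i * (p - 1) - 1).choose (n - 1) : ℕ) : ℤ) else 0) := by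
  rw [card_eq_coeff, pow_eq, sub_eq_neg_add, add_pow, Finset.mul_sum, Finset.sum_mul, map_sum]
  refine Finset.sum_congr rfl fun i _ => ?_
  have e : (X : ℤ⟦X⟧) ^ n * ((-(X ^ (p - 1))) ^ i * 1 ^ (n - i) * (n.choose i : ℤ⟦X⟧)) *
      (invOneSubPow ℤ n).val =
      C ((-1 : ℤ) ^ i * (n.choose i : ℤ)) * (X ^ (i * (p - 1) + n) * (invOneSubPow ℤ n).val) := by
    rw [map_mul, map_pow, map_neg, map_one, map_natCast, neg_pow, one_pow, ← pow_mul,
      Nat.mul_comm (p - 1) i, pow_add]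
    ring
  rw [e, coeff_C_mul, coeff_X_pow_mul', invOneSubPow_val_eq_mk_sub_one_add_choose_of_pos _ _ hn]
  congr 1
  split_ifs with h
  · rw [coeff_mk]
    congr 2
    omega
  · rfl

end W4c1Basic
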