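import Groth.Agent.W4c1Basic.Count
import Mathlib.Algebra.Ring.Parity

namespace W4c1Basic

open PowerSeries Finset

theorem card_split (h n s D : ℕ) :
    Fintype.card {e : Fin n → Fin (2 * h + 1) // (∀ i, 1 ≤ (e i : ℕ)) ∧ ∑ i, (e i : ℕ) = s ∧
        (Finset.univ.filter fun i => 2 * (e i : ℕ) < 2 * h + 1).card = D} =
      n.choose D * ∑ j ∈ Finset.range (s + 1),
        Fintype.card {e : Fin D → Fin (h + 1) // (∀ i, 1 ≤ (e i : ℕ)) ∧ ∑ i, (e i : ℕ) = j} *
          Fintype.card {e : Fin (n - D) → Fin (h + 1) // (∀ i, 1 ≤ (e i : ℕ)) ∧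
            ∑ i, (e i : ℕ) = (s - j - (n - D) * h)} := by
  classical
  rcases Nat.lt_or_ge n D with hlt | hge
  · rw [Nat.choose_eq_zero_of_lt hlt, zero_mul, Fintype.card_eq_zero_iff]
    refine ⟨fun e => ?_⟩
    have := card_finset_fin_le (Finset.univ.filter fun i => 2 * (e.1 i : ℕ) < 2 * h + 1)
    have := e.2.2.2
    omega
  let S : ℤ⟦X⟧ := ∑ e : Fin (h + 1), term (h + 1) e
  let f : Fin n → Prop → Fin (2 * h + 1) → ℤ⟦X⟧ := fun _ P x =>
    if (2 * (x : ℕ) < 2 * h + 1 ↔ P) then term (2 * h + 1) x else 0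
  have hsmall : ∀ (i : Fin n) (P : Prop), P → ∑ x, f i P x = S := by
    intro i P hP
    simp only [f, iff_true_intro hP, iff_true, S, term]
    rw [Fin.sum_univ_eq_sum_range (fun k => if 2 * k < 2 * h + 1 then
        (if 1 ≤ k then (X : ℤ⟦X⟧) ^ k else 0) else 0),
      Fin.sum_univ_eq_sum_range (fun k => if 1 ≤ k then (X : ℤ⟦X⟧) ^ k else 0),
      show 2 * h + 1 = (h + 1) + h by omega, Finset.sum_range_add]
    rw [Finset.sum_eq_zero (s := Finset.range h) (fun k _ => if_neg (by omega)), add_zero]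
    exact Finset.sum_congr rfl fun k hk => if_pos (by simp at hk; omega)
  have hlarge : ∀ (i : Fin n) (P : Prop), ¬ P → ∑ x, f i P x = X ^ h * S := by
    intro i P hP
    simp only [f, iff_false_intro hP, iff_false, S, term]
    rw [Fin.sum_univ_eq_sum_range (fun k => if ¬ 2 * k < 2 * h + 1 then
        (if 1 ≤ k then (X : ℤ⟦X⟧) ^ k else 0) else 0),
      Fin.sum_univ_eq_sum_range (fun k => if 1 ≤ k then (X : ℤ⟦X⟧) ^ k else 0),
      show 2 * h + 1 = (h + 1) + h by omega, Finset.sum_range_add,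
      Finset.sum_eq_zero (s := Finset.range (h + 1)) (fun k hk => if_neg (by simp at hk; omega)),
      zero_add, Finset.mul_sum, Finset.sum_range_succ' _ h, if_neg (by omega), mul_zero, add_zero]
    refine Finset.sum_congr rfl fun k _ => ?_
    rw [if_pos (by omega), if_pos (by omega), if_pos (by omega), ← pow_add]
    congr 1
    omega
  have hT : ∀ T : Finset (Fin n), T.card = D →
      (Fintype.card {e : Fin n → Fin (2 * h + 1) // (∀ i, 1 ≤ (e i : ℕ)) ∧ ∑ i, (e i : ℕ) = s ∧
        (Finset.univ.filter fun i => 2 * (e i : ℕ) < 2 * h + 1) = T} : ℤ) =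
        coeff s (S ^ D * (X ^ ((n - D) * h) * S ^ (n - D))) := by
    intro T hcard
    have hprod : ∏ i, ∑ x, f i (i ∈ T) x = S ^ D * (X ^ ((n - D) * h) * S ^ (n - D)) := by
      rw [← Finset.prod_mul_prod_compl T]
      rw [Finset.prod_congr rfl (fun i hi => hsmall i _ hi),
        Finset.prod_congr rfl (fun i hi => hlarge i _ (Finset.mem_compl.mp hi)),
        Finset.prod_const, Finset.prod_const, Finset.card_compl, Fintype.card_fin, hcard, mul_pow,
        ← pow_mul, Nat.mul_comm h]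
    rw [← hprod, Finset.prod_univ_sum, Fintype.piFinset_univ, map_sum, Fintype.card_subtype,
      Finset.card_filter]
    push_cast
    refine Finset.sum_congr rfl fun e _ => ?_
    by_cases hall : ∀ i, (2 * (e i : ℕ) < 2 * h + 1 ↔ i ∈ T)
    · have hfil : (Finset.univ.filter fun i => 2 * (e i : ℕ) < 2 * h + 1) = T := by
        ext i; simp only [Finset.mem_filter, Finset.mem_univ, true_and]; exact hall i
      rw [Finset.prod_congr rfl (fun i _ => (if_pos (hall i) : f i (i ∈ T) (e i) = _)), prod_term]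
      symm
      by_cases h1 : ∀ i, 1 ≤ (e i : ℕ)
      · rw [if_pos h1, coeff_X_pow]
        exact if_congr ⟨fun hh => ⟨h1, hh.symm, hfil⟩, fun hh => hh.2.1.symm⟩ rfl rfl
      · rw [if_neg h1, map_zero, if_neg (fun hh => h1 hh.1)]
    · have hfil : ¬ (Finset.univ.filter fun i => 2 * (e i : ℕ) < 2 * h + 1) = T := by
        intro hh; exact hall fun i => by rw [← hh]; simp
      push_neg at hall
      obtain ⟨i, hi⟩ := hall
      rw [Finset.prod_eq_zero (Finset.mem_univ i) (if_neg (fun hiff => by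
        rcases hi with ⟨a, b⟩ | ⟨a, b⟩
        · exact b (hiff.mp a)
        · have := hiff.mpr b; omega) : f i (i ∈ T) (e i) = 0),
        map_zero, if_neg (fun hh => hfil hh.2.2)]
  have hlhs : (Fintype.card {e : Fin n → Fin (2 * h + 1) // (∀ i, 1 ≤ (e i : ℕ)) ∧
      ∑ i, (e i : ℕ) = s ∧
      (Finset.univ.filter fun i => 2 * (e i : ℕ) < 2 * h + 1).card = D} : ℤ) =
      ∑ T ∈ Finset.univ.powersetCard D,
        (Fintype.card {e : Fin n → Fin (2 * h + 1) // (∀ i, 1 ≤ (e i : ℕ)) ∧
          ∑ i, (e i : ℕ) = s ∧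
          (Finset.univ.filter fun i => 2 * (e i : ℕ) < 2 * h + 1) = T} : ℤ) := by
    rw [Fintype.card_subtype, Finset.card_eq_sum_card_fiberwise
      (f := fun e : Fin n → Fin (2 * h + 1) =>
        Finset.univ.filter fun i => 2 * (e i : ℕ) < 2 * h + 1)
      (t := Finset.univ.powersetCard D)
      (fun e he => by simp at he ⊢; exact he.2.2)]
    push_cast
    refine Finset.sum_congr rfl fun T hT => ?_
    rw [Fintype.card_subtype, Finset.filter_filter]
    congr 2
    ext e
    simp only [Finset.mem_filter, Finset.mem_univ, true_and]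
    rw [Finset.mem_powersetCard_univ] at hT
    constructor
    · rintro ⟨⟨a, b, -⟩, c⟩; exact ⟨a, b, c⟩
    · rintro ⟨a, b, c⟩; exact ⟨⟨a, b, by rw [c, hT]⟩, c⟩
  refine (Nat.cast_inj (R := ℤ)).mp ?_
  rw [hlhs, Nat.cast_mul, Nat.cast_sum, Finset.sum_congr rfl (fun T hT' => hT T (Finset.mem_powersetCard_univ.mp hT')),
    Finset.sum_const, Finset.card_powersetCard, Finset.card_univ, Fintype.card_fin, nsmul_eq_mul]
  congr 1
  rw [coeff_mul, Finset.Nat.sum_antidiagonal_eq_sum_range_succ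
    (fun a b => coeff a (S ^ D) * coeff b (X ^ ((n - D) * h) * S ^ (n - D)))]
  refine Finset.sum_congr rfl fun j _ => ?_
  rw [Nat.cast_mul, ← card_eq_coeff, coeff_X_pow_mul']
  congr 1
  split_ifs with hle
  · rw [← card_eq_coeff]
  · symm
    rw [Nat.cast_eq_zero, Fintype.card_eq_zero_iff]
    refine ⟨fun ⟨e, he1, he⟩ => ?_⟩
    have hpos : 0 < n - D := Nat.pos_of_ne_zero fun h0 => hle (by rw [h0]; simp)
    rw [Nat.sub_eq_zero_of_le (le_of_not_ge hle)] at he
    have := Finset.single_le_sum (f := fun i => (e i : ℕ)) (fun i _ => Nat.zero_le _)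
      (Finset.mem_univ (⟨0, hpos⟩ : Fin (n - D)))
    have := he1 ⟨0, hpos⟩
    omega

end W4c1Basic
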